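import Mathlib
import Cfsg.Agent.H539.Lim.Defs
import Cfsg.Agent.H223.Lim.Basic
import Cfsg.Agent.H842.Lim.Basic
import Cfsg.Agent.H539.Lim.Filt
import Cfsg.Agent.H95.Lim.Local
import Cfsg.Agent.H481.Lim.Norm

/-!
# The norm theorem (task B3 of S5242, hub helper539)

For a family `𝒜` of norm-good `p`-subgroups: `H^{n+1} = 0` on the subgroups containing a member of `𝒜` (`van_Q`) and on the
subgroups containing no member of `𝒜` (`van_R0`).
-/

set_option autoImplicit false
set_option linter.unusedSectionVars false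

namespace Cfsg.Agent.H309.Lim

open MulAction Cfsg.Agent.H539.Lim
open Cfsg.Agent.H223.Lim (van_two2 van_two2')
open Cfsg.Agent.H842.Lim (van_all)
open Cfsg.Agent.H95.Lim (van_of_local pset_fixPt)
open Cfsg.Agent.H481.Lim (H0_Q)

universe u v w

section basics

variable {G : Type u} [Group G] {Ω : Type v} [MulAction G Ω] {D : Type w} [AddCommGroup D]
  [DistribMulAction G D]

/-- only the stabilizers of the tuples matter -/
theorem van_congr {V V' : Set (Subgroup G)} (h : ∀ (k : ℕ) (x : Fin (k + 1) → Ω), st G x ∈ V ↔ st G x ∈ V')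
    {n : ℕ} (hv : Van G Ω D V' n) : Van G Ω D V n := by
  cases n with
  | zero =>
    intro c hc hcc
    exact hv c ⟨hc.smul, fun x hx => hc.supp x fun h1 => hx ((h _ x).mp h1)⟩
      fun x hx => hcc x ((h _ x).mpr hx)
  | succ n =>
    intro c hc hcc
    obtain ⟨b, hb, hb'⟩ := hv c ⟨hc.smul, fun x hx => hc.supp x fun h1 => hx ((h _ x).mp h1)⟩
      fun x hx => hcc x ((h _ x).mpr hx)
    exact ⟨b, ⟨hb.smul, fun x hx => hb.supp x fun h1 => hx ((h _ x).mpr h1)⟩, fun x hx => hb' x ((h _ x).mp hx)⟩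

theorem van_of_isEmpty [IsEmpty Ω] {V : Set (Subgroup G)} (n : ℕ) : Van G Ω D V n := by
  cases n with
  | zero =>
    intro c _ _ x
    exact isEmptyElim (x 0)
  | succ n =>
    intro c _ _
    refine ⟨fun _ => 0, ⟨fun g x => (smul_zero g).symm, fun _ _ => rfl⟩, fun x _ => ?_⟩
    exact isEmptyElim (x 0)

/-- no tuple has its stabilizer in `V` -/
theorem van_of_forall_not {V : Set (Subgroup G)} (h : ∀ (k : ℕ) (x : Fin (k + 1) → Ω), st G x ∉ V) (n : ℕ) :
    Van G Ω D V n := by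
  cases n with
  | zero =>
    intro c hc _ x
    exact hc.supp x (h _ x)
  | succ n =>
    intro c _ _
    exact ⟨fun _ => 0, ⟨fun g x => (smul_zero g).symm, fun _ _ => rfl⟩, fun x hx => absurd hx (h _ x)⟩

end basics

section JA

variable {G : Type u} [Group G]

/-- the subgroup generated by the members of `𝒜` contained in `P` -/
def JA (𝒜 : Set (Subgroup G)) (P : Subgroup G) : Subgroup G := sSup {A | A ∈ 𝒜 ∧ A ≤ P}

variable {𝒜 : Set (Subgroup G)}

theorem le_JA {A P : Subgroup G} (h : A ∈ 𝒜) (hA : A ≤ P) : A ≤ JA 𝒜 P := le_sSup ⟨h, hA⟩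

theorem JA_le {P : Subgroup G} : JA 𝒜 P ≤ P := sSup_le fun _ h => h.2

theorem JA_mono {P Q : Subgroup G} (h : P ≤ Q) : JA 𝒜 P ≤ JA 𝒜 Q :=
  sSup_le fun _ hA => le_JA hA.1 (hA.2.trans h)

theorem JA_idem (P : Subgroup G) : JA 𝒜 (JA 𝒜 P) = JA 𝒜 P :=
  le_antisymm JA_le (sSup_le fun _ hA => le_JA hA.1 (le_JA hA.1 hA.2))

theorem cj_cj_inv (g : G) (P : Subgroup G) : cj g (cj g⁻¹ P) = P := by
  ext x
  simp only [Subgroup.mem_map]
  constructor
  · rintro ⟨y, ⟨z, hz, rfl⟩, rfl⟩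
    simpa [mul_assoc] using hz
  · intro hx
    exact ⟨g⁻¹ * x * g, ⟨x, hx, by simp⟩, by simp [mul_assoc]⟩

theorem cj_mono {g : G} {P Q : Subgroup G} (h : P ≤ Q) : cj g P ≤ cj g Q := Subgroup.map_mono h

theorem JA_cj_le (hi : IsInv 𝒜) (g : G) (P : Subgroup G) : cj g (JA 𝒜 P) ≤ JA 𝒜 (cj g P) := by
  rw [cj, Subgroup.map_le_iff_le_comap]
  refine sSup_le fun A hA => ?_
  rw [← Subgroup.map_le_iff_le_comap]
  exact le_JA (hi g A hA.1) (cj_mono hA.2)

theorem JA_cj (hi : IsInv 𝒜) (g : G) (P : Subgroup G) : JA 𝒜 (cj g P) = cj g (JA 𝒜 P) := by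
  refine le_antisymm ?_ (JA_cj_le hi g P)
  have h1 := JA_cj_le hi g⁻¹ (cj g P)
  have h2 : cj g⁻¹ (cj g P) = P := by
    have := cj_cj_inv g⁻¹ P
    rwa [inv_inv] at this
  rw [h2] at h1
  have h3 := cj_mono (g := g) h1
  rwa [cj_cj_inv] at h3

end JA

section ngood

variable {G : Type u} [Group G] {D : Type w} [AddCommGroup D] [DistribMulAction G D]

theorem ngood_of_map {p : ℕ} {N : Subgroup G} {A : Subgroup ↥N} (h : NGood p D (A.map N.subtype)) :
    NGood p D A := by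
  intro M hM hr z hz hpz a ha haM
  have h1 := h (M.map N.subtype) (Subgroup.map_mono hM)
    (by rw [Subgroup.relIndex_map_map_of_injective _ _ N.subtype_injective]; exact hr) z
    (by
      rintro _ ⟨m, hm, rfl⟩
      exact hz m hm)
    (by
      rintro _ ⟨m, hm, rfl⟩
      exact hpz m hm)
    (a : G) ⟨a, ha, rfl⟩ (by
      rintro ⟨b, hb, hab⟩
      apply haM
      have : b = a := Subtype.ext hab
      rwa [← this])
  exact h1

end ngood

/-- the kernel grows under localization -/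
theorem index_lt {G : Type u} [Group G] [Finite G] {Ω : Type v} [MulAction G Ω] {J : Subgroup G}
    (hJ : ¬ J ≤ (toPermHom G Ω).ker) :
    (toPermHom ↥(Nz J) (FixPt J Ω)).ker.index < (toPermHom G Ω).ker.index := by
  set K := (toPermHom G Ω).ker with hK
  have h1 : K.relIndex (Nz J) ∣ K.index := Subgroup.relIndex_dvd_index_of_normal K (Nz J)
  have h2 : K.relIndex (Nz J) ≤ K.index := Nat.le_of_dvd
    (Nat.pos_of_ne_zero Subgroup.FiniteIndex.index_ne_zero) h1
  refine lt_of_lt_of_le ?_ h2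
  refine Subgroup.index_strictAnti ?_
  constructor
  · intro n hn
    have h3 : (n : G) ∈ K := hn
    rw [hK, MonoidHom.mem_ker] at h3
    rw [MonoidHom.mem_ker]
    ext y
    refine Subtype.ext ?_
    have := congrArg (fun f => f y.1) h3
    exact this
  · intro h3
    apply hJ
    intro j hj
    have hjN : j ∈ Nz J := Subgroup.le_normalizer hj
    have h4 : (⟨j, hjN⟩ : ↥(Nz J)) ∈ (toPermHom ↥(Nz J) (FixPt J Ω)).ker := by
      rw [MonoidHom.mem_ker]
      ext y
      exact Subtype.ext (y.2 hj)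
    exact h3 h4

section main

variable {p : ℕ} [hp : Fact p.Prime] {D : Type w} [AddCommGroup D] [Finite D]

/-- the degree zero step -/
theorem van_R0_of_Q {G : Type u} [Group G] [Finite G] {Ω : Type v} [MulAction G Ω] [Finite Ω] [DistribMulAction G D]
    (hΩ : PSet p G Ω) (hD : IsPTors p D) (𝒜 : Set (Subgroup G)) (hi : IsInv 𝒜) (hp : ∀ A ∈ 𝒜, IsPGroup p A)
    (hg : ∀ A ∈ 𝒜, NGood p D A) (hQ : ∀ n : ℕ, Van G Ω D {P | ∃ A ∈ 𝒜, A ≤ P} (n + 1)) (n : ℕ) :
    Van G Ω D {P | ∀ A ∈ 𝒜, ¬ A ≤ P} (n + 1) := by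
  have hU : IsUpperSet {P : Subgroup G | ∃ A ∈ 𝒜, A ≤ P} := by
    rintro P Q hPQ ⟨A, hA, hAP⟩
    exact ⟨A, hA, hAP.trans hPQ⟩
  have hUi : IsInv {P : Subgroup G | ∃ A ∈ 𝒜, A ≤ P} := by
    rintro g P ⟨A, hA, hAP⟩
    exact ⟨cj g A, hi g A hA, cj_mono hAP⟩
  have hVi : IsInv (Set.univ : Set (Subgroup G)) := fun _ _ _ => trivial
  have he : {P : Subgroup G | ∀ A ∈ 𝒜, ¬ A ≤ P} = Set.univ \ {P | ∃ A ∈ 𝒜, A ≤ P} := by
    ext P
    simp
  rw [he]
  cases n with
  | zero =>
    refine van_two2' Set.ordConnected_univ hVi hU hUi (van_all hΩ hD (fun _ _ => trivial) 0) fun b hb hbc => ?_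
    obtain ⟨d, hd, hd'⟩ := H0_Q hΩ hD 𝒜 hi hp hg (fun y => b fun _ => y) (fun g y => hb.smul g fun _ => y)
      (by
        rintro x y ⟨A, hA, hAx⟩
        have h1 := hbc ![x, y] (by
          refine ⟨trivial, A, hA, fun a ha => ?_⟩
          rw [mem_stabilizer_iff]
          have h2 := hAx ha
          rw [Subgroup.mem_inf, mem_stabilizer_iff, mem_stabilizer_iff] at h2
          funext i
          fin_cases i
          · exact h2.1
          · exact h2.2)
        rw [dd, Fin.sum_univ_two] at h1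
        simp only [Fin.val_zero, pow_zero, one_smul, Fin.val_one, pow_one, neg_smul] at h1
        have h3 : (fun j => (![x, y] : Fin 2 → Ω) ((0 : Fin 2).succAbove j)) = fun _ => y := by
          funext j
          fin_cases j
          rfl
        have h4 : (fun j => (![x, y] : Fin 2 → Ω) ((1 : Fin 2).succAbove j)) = fun _ => x := by
          funext j
          fin_cases j
          rfl
        rw [h3, h4] at h1
        exact (sub_eq_zero.mp (by rwa [sub_eq_add_neg])).symm)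
    refine ⟨fun _ => d, ⟨fun g x => (hd g).symm, fun x hx => absurd trivial hx⟩, ?_, ?_⟩
    · intro x _
      rw [dd, Fin.sum_univ_two]
      simp
    · rintro x ⟨A, hA, hAx⟩
      have h1 : x = fun _ => x 0 := by
        funext j
        fin_cases j
        rfl
      have h2 := hd' (x 0) ⟨A, hA, fun a ha => by
        have h3 := hAx ha
        rw [mem_stabilizer_iff] at h3 ⊢
        exact congrFun h3 0⟩
      rw [h1]
      exact h2.symm
  | succ n =>
    refine van_two2 Set.ordConnected_univ hVi hU hUi (van_all hΩ hD (fun _ _ => trivial) _) ?_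
    rw [Set.univ_inter]
    exact hQ n

theorem norm_aux (hD : IsPTors p D) : ∀ (N : ℕ) (G : Type u) [Group G] [Finite G] (Ω : Type v) [MulAction G Ω] [Finite Ω]
    [DistribMulAction G D], PSet p G Ω → (toPermHom G Ω).ker.index = N → ∀ (𝒜 : Set (Subgroup G)), IsInv 𝒜 →
    (∀ A ∈ 𝒜, IsPGroup p A) → (∀ A ∈ 𝒜, NGood p D A) → ∀ n : ℕ,
    Van G Ω D {P | ∀ A ∈ 𝒜, ¬ A ≤ P} (n + 1) ∧ Van G Ω D {P | ∃ A ∈ 𝒜, A ≤ P} (n + 1) := by
  intro N
  induction N using Nat.strong_induction_on with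
  | _ N ih =>
  intro G _ _ Ω _ _ _ hΩ hN 𝒜 hi hpA hg
  by_cases hker : ∃ A ∈ 𝒜, A ≤ (toPermHom G Ω).ker
  · -- a member of `𝒜` fixes all points
    obtain ⟨A, hA, hAK⟩ := hker
    have hst : ∀ (k : ℕ) (x : Fin (k + 1) → Ω), A ≤ st G x := by
      intro k x a ha
      rw [mem_stabilizer_iff]
      funext i
      have h1 := hAK ha
      rw [MonoidHom.mem_ker] at h1
      have := congrArg (fun f => f (x i)) h1
      exact this
    refine fun n => ⟨van_of_forall_not (V := {P | ∀ A ∈ 𝒜, ¬ A ≤ P}) (fun k x h => h A hA (hst k x)) _, ?_⟩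
    refine van_congr (V := {P | ∃ A ∈ 𝒜, A ≤ P}) (V' := Set.univ)
      (fun k x => ⟨fun _ => trivial, fun _ => ⟨A, hA, hst k x⟩⟩) ?_
    exact van_all hΩ hD (fun _ _ => trivial) n
  · push Not at hker
    have hQ : ∀ n : ℕ, Van G Ω D {P | ∃ A ∈ 𝒜, A ≤ P} (n + 1) := by
      intro n
      have hup : IsUpperSet {P : Subgroup G | ∃ A ∈ 𝒜, A ≤ P} := by
        rintro P Q hPQ ⟨A, hA, hAP⟩
        exact ⟨A, hA, hAP.trans hPQ⟩
      have hUi : IsInv {P : Subgroup G | ∃ A ∈ 𝒜, A ≤ P} := by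
        rintro g P ⟨A, hA, hAP⟩
        exact ⟨cj g A, hi g A hA, cj_mono hAP⟩
      have hcard : ∀ (g : G) (P : Subgroup G), Nat.card (JA 𝒜 (cj g P)) = Nat.card (JA 𝒜 P) := by
        intro g P
        rw [JA_cj hi, cj]
        exact Subgroup.card_map_of_injective (MulAut.conj g).injective
      refine van_of_filt hup.ordConnected hUi (fun P => Nat.card (JA 𝒜 P)) (fun P _ Q _ hPQ =>
        Subgroup.card_le_of_le (JA_mono hPQ)) (fun g P _ => hcard g P) (n + 1) fun i => ?_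
      refine van_of_local hΩ (V := {P | P ∈ {P : Subgroup G | ∃ A ∈ 𝒜, A ≤ P} ∧ Nat.card (JA 𝒜 P) = i})
        ?_ (JA 𝒜) (fun P _ => JA_le) (fun g P _ => JA_cj hi g P) ?_ (n + 1) ?_
      · rintro g P ⟨h1, h2⟩
        exact ⟨hUi g P h1, (hcard g P).trans h2⟩
      · rintro P ⟨-, h1⟩ Q ⟨-, h2⟩ hPQ
        exact Subgroup.eq_of_le_of_card_ge (JA_mono hPQ) (h2.trans h1.symm).le
      · rintro P ⟨⟨A₀, hA₀, hA₀P⟩, hPi⟩
        set J := JA 𝒜 P with hJ
        have hA₀J : A₀ ≤ J := le_JA hA₀ hA₀P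
        have hJK : ¬ J ≤ (toPermHom G Ω).ker := fun h => hker A₀ hA₀ (hA₀J.trans h)
        rcases isEmpty_or_nonempty (FixPt J Ω) with hemp | ⟨⟨y⟩⟩
        · exact van_of_isEmpty _
        have hJp : IsPGroup p J := (hΩ.pgroup y.1).to_le y.2
        set N' := Nz J with hN'
        have hJN : J ≤ N' := Subgroup.le_normalizer
        let 𝒜' : Set (Subgroup ↥N') := {A' | A'.map N'.subtype ∈ 𝒜 ∧ ¬ A'.map N'.subtype ≤ J}
        have hi' : IsInv 𝒜' := by
          rintro n' A' ⟨h1, h2⟩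
          have h3 : (cj n' A').map N'.subtype = cj (n' : G) (A'.map N'.subtype) := by
            ext x
            simp only [Subgroup.mem_map]
            constructor
            · rintro ⟨_, ⟨z, hz, rfl⟩, rfl⟩
              exact ⟨z, ⟨z, hz, rfl⟩, rfl⟩
            · rintro ⟨_, ⟨z, hz, rfl⟩, rfl⟩
              exact ⟨_, ⟨z, hz, rfl⟩, rfl⟩
          refine ⟨by rw [h3]; exact hi _ _ h1, fun h4 => h2 ?_⟩
          rw [h3] at h4
          intro a ha
          have h5 : (n' : G) * a * (n' : G)⁻¹ ∈ J := h4 ⟨a, ha, rfl⟩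
          exact (Subgroup.mem_normalizer_iff.mp n'.2 a).mpr h5
        have hp' : ∀ A' ∈ 𝒜', IsPGroup p A' := by
          rintro A' ⟨h1, -⟩
          exact (hpA _ h1).of_equiv (A'.equivMapOfInjective N'.subtype N'.subtype_injective).symm
        have hg' : ∀ A' ∈ 𝒜', NGood p D A' := by
          rintro A' ⟨h1, -⟩
          exact ngood_of_map (hg _ h1)
        have hlt := index_lt (Ω := Ω) hJK
        rw [hN] at hlt
        have h6 := (ih _ hlt ↥N' (FixPt J Ω) (pset_fixPt hΩ J hJp) rfl 𝒜' hi' hp' hg' n).1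
        refine van_congr (fun k x => ?_) h6
        have hJst : J ≤ (st ↥N' x).map N'.subtype := by
          intro j hj
          refine ⟨⟨j, hJN hj⟩, ?_, rfl⟩
          rw [SetLike.mem_coe, mem_stabilizer_iff]
          funext i
          exact Subtype.ext ((x i).2 hj)
        constructor
        · rintro ⟨-, h7⟩ A' ⟨h8, h9⟩ h10
          exact h9 ((le_JA h8 (Subgroup.map_mono h10)).trans h7.le)
        · intro h7
          have h8 : JA 𝒜 ((st ↥N' x).map N'.subtype) = J := by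
            apply le_antisymm
            · refine sSup_le ?_
              rintro A ⟨hA, hAx⟩
              by_contra hAJ
              have hAN : A ≤ N' := hAx.trans (Subgroup.map_subtype_le _)
              have hm : (A.subgroupOf N').map N'.subtype = A := by
                rw [Subgroup.subgroupOf_map_subtype, inf_eq_left.mpr hAN]
              refine h7 (A.subgroupOf N') ⟨by rw [hm]; exact hA, by rw [hm]; exact hAJ⟩ ?_
              intro a ha
              obtain ⟨b, hb, hba⟩ := hAx (show (a : G) ∈ A from ha)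
              have : b = a := Subtype.ext hba
              rwa [← this]
            · exact (JA_idem (𝒜 := 𝒜) P).ge.trans (JA_mono (𝒜 := 𝒜) hJst)
          exact ⟨⟨⟨A₀, hA₀, hA₀J.trans hJst⟩, by rw [h8]; exact hPi⟩, h8⟩
    exact fun n => ⟨van_R0_of_Q hΩ hD 𝒜 hi hpA hg hQ n, hQ n⟩

end main

section final

variable {G : Type u} [Group G] {Ω : Type v} [MulAction G Ω] {D : Type w} [AddCommGroup D]
  [DistribMulAction G D]

/-- **B3**: the norm theorem -/
theorem van_R0 {p : ℕ} [Fact p.Prime] [Finite G] [Finite Ω] [Finite D] (hΩ : PSet p G Ω) (hD : IsPTors p D)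
    (𝒜 : Set (Subgroup G)) (hi : IsInv 𝒜) (hp : ∀ A ∈ 𝒜, IsPGroup p A) (hg : ∀ A ∈ 𝒜, NGood p D A) (n : ℕ) :
    Van G Ω D {P | ∀ A ∈ 𝒜, ¬ A ≤ P} (n + 1) :=
  (norm_aux hD _ G Ω hΩ rfl 𝒜 hi hp hg n).1

theorem van_Q {p : ℕ} [Fact p.Prime] [Finite G] [Finite Ω] [Finite D] (hΩ : PSet p G Ω) (hD : IsPTors p D)
    (𝒜 : Set (Subgroup G)) (hi : IsInv 𝒜) (hp : ∀ A ∈ 𝒜, IsPGroup p A) (hg : ∀ A ∈ 𝒜, NGood p D A) (n : ℕ) :
    Van G Ω D {P | ∃ A ∈ 𝒜, A ≤ P} (n + 1) :=
  (norm_aux hD _ G Ω hΩ rfl 𝒜 hi hp hg n).2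

end final

end Cfsg.Agent.H309.Lim
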